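import Groth.Agent.Biext52.Elem
import Mathlib.Algebra.Homology.QuasiIso
import Mathlib.Algebra.Homology.Homotopy
import Mathlib.Algebra.Module.Projective

namespace Groth.Agent.Biext52

open CategoryTheory HomologicalComplex

universe v u

variable {R : Type u} [Ring R] {A' A A'' : ChainComplex (ModuleCat.{v} R) ℕ}

/-- Elementwise exactness everywhere. -/
def Acyclic (E : ChainComplex (ModuleCat.{v} R) ℕ) : Prop :=
  (∀ x : E.X 0, ∃ y, (E.d 1 0).hom y = x) ∧
    ∀ (q : ℕ) (x : E.X (q + 1)), (E.d (q + 1) q).hom x = 0 → ∃ y, (E.d (q + 2) (q + 1)).hom y = x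

/-- One step of a contraction. -/
def Step (E : ChainComplex (ModuleCat.{v} R) ℕ) (q : ℕ) : Type v :=
  { c : E.X q →ₗ[R] E.X (q + 1) //
    ∀ x : E.X (q + 1), (E.d (q + 1) q).hom (c ((E.d (q + 1) q).hom x)) = (E.d (q + 1) q).hom x }

variable (E : ChainComplex (ModuleCat.{v} R) ℕ) [∀ q, Module.Projective R (E.X q)]

theorem exists_first (hE : Acyclic E) :
    ∃ c : Step E 0, ∀ x, (E.d 1 0).hom (c.1 x) = x := by
  obtain ⟨c, hc⟩ := Module.projective_lifting_property (E.d 1 0).hom LinearMap.id hE.1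
  exact ⟨⟨c, fun x => LinearMap.congr_fun hc _⟩, fun x => LinearMap.congr_fun hc x⟩

theorem exists_next (hE : Acyclic E) (q : ℕ) (c : Step E q) :
    ∃ c' : Step E (q + 1), ∀ x,
      (E.d (q + 2) (q + 1)).hom (c'.1 x) + c.1 ((E.d (q + 1) q).hom x) = x := by
  let g : E.X (q + 1) →ₗ[R] E.X (q + 1) := LinearMap.id - c.1 ∘ₗ (E.d (q + 1) q).hom
  have hg : ∀ x, g x ∈ LinearMap.range (E.d (q + 2) (q + 1)).hom := fun x => by
    obtain ⟨y, hy⟩ := hE.2 q (g x) (by simp [g, c.2 x])
    exact ⟨y, hy⟩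
  obtain ⟨c', hc'⟩ := Module.projective_lifting_property (E.d (q + 2) (q + 1)).hom.rangeRestrict
    (g.codRestrict _ hg) (LinearMap.surjective_rangeRestrict _)
  have h : ∀ x, (E.d (q + 2) (q + 1)).hom (c' x) = x - c.1 ((E.d (q + 1) q).hom x) := fun x =>
    congrArg Subtype.val (LinearMap.congr_fun hc' x)
  exact ⟨⟨c', fun x => by rw [h, d_d]; simp⟩, fun x => by rw [h]; simp⟩

theorem exists_contraction (hE : Acyclic E) :
    ∃ c : ∀ q, E.X q →ₗ[R] E.X (q + 1),
      (∀ x, (E.d 1 0).hom (c 0 x) = x) ∧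
        ∀ q x, (E.d (q + 2) (q + 1)).hom (c (q + 1) x) + c q ((E.d (q + 1) q).hom x) = x := by
  obtain ⟨c₀, h₀⟩ := exists_first E hE
  choose next hnext using exists_next E hE
  let c : ∀ q, Step E q := fun q => Nat.rec c₀ next q
  exact ⟨fun q => (c q).1, h₀, fun q x => hnext q (c q) x⟩

variable {E}

theorem acyclic_of_ses (f : A' ⟶ A) (p : A ⟶ A'') (hf : ∀ q, Function.Injective (f.f q).hom)
    (hp : ∀ q, Function.Surjective (p.f q).hom)
    (hfp : ∀ q, Function.Exact (f.f q).hom (p.f q).hom) [QuasiIso f] : Acyclic A'' := by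
  have hiso : ∀ i, IsIso (homologyMap f i) := fun i => inferInstance
  refine ⟨fun x => ?_, fun q x hx => ?_⟩
  · obtain ⟨a, rfl⟩ := hp 0 x
    have := hiso 0
    obtain ⟨z, y, he⟩ := (epi_homologyMap_zero_iff f).mp inferInstance a
    refine ⟨(p.f 1).hom y, ?_⟩
    rw [comm_apply, he, map_add, (hfp 0).apply_apply_eq_zero, zero_add]
  · obtain ⟨a, rfl⟩ := hp (q + 1) x
    rw [comm_apply] at hx
    obtain ⟨a', ha'⟩ := (hfp q _).mp hx
    have hq := hiso q
    obtain ⟨b', hb'⟩ : ∃ b', (A'.d (q + 1) q).hom b' = a' := by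
      cases q with
      | zero =>
        obtain ⟨b', hb'⟩ := (mono_homologyMap_zero_iff f).mp inferInstance a' a ha'
        exact ⟨b', hb'.symm⟩
      | succ r =>
        have hda : (A'.d (r + 1) r).hom a' = 0 := hf r (by rw [← comm_apply, ha', d_d, map_zero])
        obtain ⟨b', hb'⟩ := (mono_homologyMap_iff f (r + 2) (r + 1) r (by simp) (by simp)).mp
          inferInstance a' a hda ha'
        exact ⟨b', hb'.symm⟩
    have hq1 := hiso (q + 1)
    obtain ⟨z, y, hz, he⟩ := (epi_homologyMap_iff f (q + 2) (q + 1) q (by simp) (by simp)).mp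
      inferInstance (a - (f.f (q + 1)).hom b')
      (by rw [map_sub, comm_apply, hb', ha', sub_self])
    refine ⟨(p.f (q + 2)).hom y, ?_⟩
    rw [comm_apply, eq_sub_of_add_eq' he.symm]
    simp [(hfp (q + 1)).apply_apply_eq_zero]

theorem exists_section [∀ q, Module.Projective R (A''.X q)] (f : A' ⟶ A) (p : A ⟶ A'')
    (hf : ∀ q, Function.Injective (f.f q).hom) (hp : ∀ q, Function.Surjective (p.f q).hom)
    (hfp : ∀ q, Function.Exact (f.f q).hom (p.f q).hom) [QuasiIso f] :
    ∃ h : A'' ⟶ A, h ≫ p = 𝟙 A'' := by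
  have hac := acyclic_of_ses f p hf hp hfp
  obtain ⟨c, hc0, hc⟩ := exists_contraction A'' hac
  have hs : ∀ q, ∃ s : A''.X q →ₗ[R] A.X q, (p.f q).hom ∘ₗ s = LinearMap.id :=
    fun q => Module.projective_lifting_property _ _ (hp q)
  choose s hs using hs
  have hps : ∀ q x, (p.f q).hom (s q x) = x := fun q x => LinearMap.congr_fun (hs q) x
  let h : ∀ q, A''.X q →ₗ[R] A.X q := fun q => match q with
    | 0 => (A.d 1 0).hom ∘ₗ s 1 ∘ₗ c 0
    | q + 1 => (A.d (q + 2) (q + 1)).hom ∘ₗ s (q + 2) ∘ₗ c (q + 1) +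
        s (q + 1) ∘ₗ c q ∘ₗ (A''.d (q + 1) q).hom
  have key : ∀ q (x : A''.X (q + 1)),
      (A.d (q + 1) q).hom (h (q + 1) x) = h q ((A''.d (q + 1) q).hom x) := by
    intro q x
    cases q with
    | zero => simp only [h, LinearMap.add_apply, LinearMap.comp_apply, map_add, d_d, zero_add]
    | succ r => simp only [h, LinearMap.add_apply, LinearMap.comp_apply, map_add, d_d, zero_add, map_zero, add_zero]
  have hph : ∀ q x, (p.f q).hom (h q x) = x := by
    intro q x
    cases q with
    | zero => simp only [h, LinearMap.comp_apply, ← comm_apply, hps, hc0]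
    | succ r => simp only [h, LinearMap.add_apply, LinearMap.comp_apply, map_add, ← comm_apply, hps, hc]
  refine ⟨⟨fun q => ModuleCat.ofHom (h q), fun i j hij => ?_⟩, ?_⟩
  · obtain rfl : j + 1 = i := hij
    ext x; exact key j x
  · apply HomologicalComplex.hom_ext
    intro q
    ext x
    exact hph q x

theorem exists_homotopy [∀ q, Module.Projective R (A''.X q)] (f : A' ⟶ A) (p : A ⟶ A'')
    (hf : ∀ q, Function.Injective (f.f q).hom) (hp : ∀ q, Function.Surjective (p.f q).hom)
    (hfp : ∀ q, Function.Exact (f.f q).hom (p.f q).hom) [QuasiIso f]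
    {B : ChainComplex (ModuleCat.{v} R) ℕ} (g₁ g₂ : A ⟶ B) (hg : f ≫ g₁ = f ≫ g₂) :
    ∃ H : Homotopy g₁ g₂, ∀ i j : ℕ, f.f i ≫ H.hom i j = 0 := by
  classical
  obtain ⟨h, hh⟩ := exists_section f p hf hp hfp
  obtain ⟨c, hc0, hc⟩ := exists_contraction A'' (acyclic_of_ses f p hf hp hfp)
  have hφf : ∀ q (x : A'.X q), (g₁.f q).hom ((f.f q).hom x) = (g₂.f q).hom ((f.f q).hom x) := by
    intro q x
    have := congrArg (fun φ => (φ.f q).hom x) hg
    simpa using this
  let u : A'' ⟶ B := h ≫ (g₁ - g₂)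
  have hu : ∀ q (a : A.X q), (u.f q).hom ((p.f q).hom a) = (g₁.f q).hom a - (g₂.f q).hom a := by
    intro q a
    have hph : (p.f q).hom ((h.f q).hom ((p.f q).hom a)) = (p.f q).hom a := by
      have := congrArg (fun φ => (φ.f q).hom ((p.f q).hom a)) hh
      simpa using this
    obtain ⟨z, hz⟩ := (hfp q ((h.f q).hom ((p.f q).hom a) - a)).mp (by rw [map_sub, hph, sub_self])
    show (g₁.f q).hom ((h.f q).hom ((p.f q).hom a)) - (g₂.f q).hom ((h.f q).hom ((p.f q).hom a)) = _
    have e : (h.f q).hom ((p.f q).hom a) = a + (f.f q).hom z := by rw [hz]; abel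
    rw [e, map_add, map_add, hφf]
    abel
  let hom : ∀ i j : ℕ, A.X i ⟶ B.X j := fun i j =>
    if hij : i + 1 = j then
      p.f i ≫ ModuleCat.ofHom (c i) ≫ u.f (i + 1) ≫ eqToHom (by rw [hij]) else 0
  have hhom : ∀ i (a : A.X i), (hom i (i + 1)).hom a = (u.f (i + 1)).hom (c i ((p.f i).hom a)) := by
    intro i a
    simp [hom]
  refine ⟨{ hom := hom, zero := fun i j hij => dif_neg hij, comm := fun i => ?_ }, fun i j => ?_⟩
  · cases i with
    | zero =>
      rw [dNext_eq_zero _ 0 (by simp), prevD_eq _ (show (ComplexShape.down ℕ).Rel 1 0 from rfl)]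
      ext a
      simp only [zero_add, ModuleCat.hom_add, LinearMap.add_apply, ModuleCat.hom_comp, LinearMap.comp_apply, hhom]
      rw [comm_apply, hc0, hu]
      abel
    | succ q =>
      rw [dNext_eq _ (show (ComplexShape.down ℕ).Rel (q + 1) q from rfl),
        prevD_eq _ (show (ComplexShape.down ℕ).Rel (q + 2) (q + 1) from rfl)]
      ext a
      simp only [ModuleCat.hom_add, LinearMap.add_apply, ModuleCat.hom_comp, LinearMap.comp_apply, hhom]
      rw [comm_apply u (q + 2) (q + 1), ← comm_apply p (q + 1) q, ← map_add (u.f (q + 1)).hom,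
        add_comm (c q _), hc, hu]
      abel
  · ext x
    by_cases hij : i + 1 = j
    · subst hij
      simp only [ModuleCat.hom_comp, LinearMap.comp_apply, hhom, (hfp i).apply_apply_eq_zero, map_zero,
        ModuleCat.hom_zero, LinearMap.zero_apply]
    · simp [hom, dif_neg hij]

/-- The degreewise quotient complex. -/
noncomputable def quot (f : A' ⟶ A) : ChainComplex (ModuleCat.{v} R) ℕ :=
  ChainComplex.of (fun q => ModuleCat.of R ((A.X q) ⧸ LinearMap.range (f.f q).hom))
    (fun q => ModuleCat.ofHom ((LinearMap.range (f.f (q + 1)).hom).mapQ (LinearMap.range (f.f q).hom)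
      (A.d (q + 1) q).hom (by
        rintro _ ⟨x, rfl⟩
        exact ⟨(A'.d (q + 1) q).hom x, (comm_apply f _ _ x).symm⟩)))
    (fun q => by
      ext x
      show Submodule.Quotient.mk _ = _
      rw [d_d]
      rfl)

/-- The projection to the quotient complex. -/
noncomputable def quotπ (f : A' ⟶ A) : A ⟶ quot f where
  f q := ModuleCat.ofHom (LinearMap.range (f.f q).hom).mkQ
  comm' i j hij := by
    obtain rfl : j + 1 = i := hij
    unfold quot
    dsimp only [ChainComplex.of, ChainComplex.of.d]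
    rw [dif_pos rfl, eqToHom_refl, Category.id_comp]
    rfl

theorem quotπ_surjective (f : A' ⟶ A) (q : ℕ) : Function.Surjective ((quotπ f).f q).hom :=
  Submodule.mkQ_surjective _

theorem quotπ_exact (f : A' ⟶ A) (q : ℕ) : Function.Exact (f.f q).hom ((quotπ f).f q).hom :=
  LinearMap.exact_map_mkQ_range _

end Groth.Agent.Biext52
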