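import Groth.Prelude.Def_W4c3biextchowCx
import Mathlib.Algebra.Homology.Refinements
import Mathlib.Algebra.Category.ModuleCat.Abelian
import Mathlib.Algebra.Homology.ShortComplex.ModuleCat

namespace Groth.Agent.Biext52

open CategoryTheory HomologicalComplex

universe v u

variable {R : Type u} [Ring R] {C D : ChainComplex (ModuleCat.{v} R) ℕ}

theorem d_d (C : ChainComplex (ModuleCat.{v} R) ℕ) (i j k : ℕ) (x : C.X i) :
    (C.d j k).hom ((C.d i j).hom x) = 0 := by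
  have h : (C.d i j ≫ C.d j k).hom x = 0 := by rw [C.d_comp_d]; simp
  simpa only [ModuleCat.hom_comp, LinearMap.comp_apply] using h

theorem comm_apply (f : C ⟶ D) (i j : ℕ) (x : C.X i) :
    (D.d i j).hom ((f.f i).hom x) = (f.f j).hom ((C.d i j).hom x) := by
  have h := congrArg (fun φ => φ.hom x) (f.comm i j)
  simpa only [ModuleCat.hom_comp, LinearMap.comp_apply] using h

theorem mono_homologyMap_iff (f : C ⟶ D) (i j k : ℕ) (hi : (ComplexShape.down ℕ).prev j = i)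
    (hk : (ComplexShape.down ℕ).next j = k) :
    Mono (homologyMap f j) ↔ ∀ (x : C.X j) (y : D.X i), (C.d j k).hom x = 0 →
      (f.f j).hom x = (D.d i j).hom y → ∃ x₁ : C.X i, x = (C.d i j).hom x₁ := by
  rw [mono_homologyMap_iff_up_to_refinements f i j k hi hk]
  constructor
  · intro h x y hx hxy
    let W : Submodule R (C.X j × D.X i) :=
      LinearMap.ker ((C.d j k).hom ∘ₗ LinearMap.fst R _ _) ⊓
        LinearMap.ker ((f.f j).hom ∘ₗ LinearMap.fst R _ _ - (D.d i j).hom ∘ₗ LinearMap.snd R _ _)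
    have hw : (x, y) ∈ W := ⟨hx, by simp [hxy]⟩
    obtain ⟨A', π, hπ, x₁, he⟩ := h (A := ModuleCat.of R W)
      (ModuleCat.ofHom (LinearMap.fst R _ _ ∘ₗ W.subtype))
      (by ext w; exact w.2.1)
      (ModuleCat.ofHom (LinearMap.snd R _ _ ∘ₗ W.subtype))
      (by ext w; exact sub_eq_zero.mp (LinearMap.mem_ker.mp w.2.2))
    obtain ⟨a, ha⟩ := (ModuleCat.epi_iff_surjective π).mp hπ ⟨(x, y), hw⟩
    refine ⟨x₁.hom a, ?_⟩
    have := congrArg (fun φ => φ.hom a) he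
    simp only [ModuleCat.hom_comp, LinearMap.comp_apply, ha] at this
    exact this
  · intro h A x₂ hx₂ y₁ hy
    let W : Submodule R (A × C.X i) :=
      LinearMap.ker (x₂.hom ∘ₗ LinearMap.fst R _ _ - (C.d i j).hom ∘ₗ LinearMap.snd R _ _)
    refine ⟨ModuleCat.of R W, ModuleCat.ofHom (LinearMap.fst R _ _ ∘ₗ W.subtype), ?_,
      ModuleCat.ofHom (LinearMap.snd R _ _ ∘ₗ W.subtype), ?_⟩
    · rw [ModuleCat.epi_iff_surjective]
      intro a
      have e1 := congrArg (fun φ => φ.hom a) hx₂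
      have e2 := congrArg (fun φ => φ.hom a) hy
      obtain ⟨x₁, hx₁⟩ := h (x₂.hom a) (y₁.hom a) e1 e2
      exact ⟨⟨(a, x₁), by simp [W, hx₁]⟩, rfl⟩
    · ext w; exact sub_eq_zero.mp (LinearMap.mem_ker.mp w.2)

theorem epi_homologyMap_iff (f : C ⟶ D) (i j k : ℕ) (hi : (ComplexShape.down ℕ).prev j = i)
    (hk : (ComplexShape.down ℕ).next j = k) :
    Epi (homologyMap f j) ↔ ∀ (y : D.X j), (D.d j k).hom y = 0 →
      ∃ (x : C.X j) (y₁ : D.X i), (C.d j k).hom x = 0 ∧ y = (f.f j).hom x + (D.d i j).hom y₁ := by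
  rw [epi_homologyMap_iff_up_to_refinements f i j k hi hk]
  constructor
  · intro h y hy
    let W : Submodule R (D.X j) := LinearMap.ker (D.d j k).hom
    obtain ⟨A', π, hπ, x₂, hx₂, y₁, he⟩ := h (A := ModuleCat.of R W) (ModuleCat.ofHom W.subtype)
      (by ext w; exact w.2)
    obtain ⟨a, ha⟩ := (ModuleCat.epi_iff_surjective π).mp hπ ⟨y, hy⟩
    refine ⟨x₂.hom a, y₁.hom a, congrArg (fun φ => φ.hom a) hx₂, ?_⟩
    have := congrArg (fun φ => φ.hom a) he
    simp only [ModuleCat.hom_comp, LinearMap.comp_apply, ha] at this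
    exact this
  · intro h A y₂ hy₂
    let W : Submodule R (A × C.X j × D.X i) :=
      LinearMap.ker ((C.d j k).hom ∘ₗ LinearMap.fst R _ _ ∘ₗ LinearMap.snd R A (C.X j × D.X i)) ⊓
        LinearMap.ker (y₂.hom ∘ₗ LinearMap.fst R _ _ -
          (f.f j).hom ∘ₗ LinearMap.fst R _ _ ∘ₗ LinearMap.snd R A (C.X j × D.X i) -
          (D.d i j).hom ∘ₗ LinearMap.snd R _ _ ∘ₗ LinearMap.snd R A (C.X j × D.X i))
    refine ⟨ModuleCat.of R W, ModuleCat.ofHom (LinearMap.fst R _ _ ∘ₗ W.subtype), ?_,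
      ModuleCat.ofHom (LinearMap.fst R _ _ ∘ₗ LinearMap.snd R A (C.X j × D.X i) ∘ₗ W.subtype), ?_,
      ModuleCat.ofHom (LinearMap.snd R _ _ ∘ₗ LinearMap.snd R A (C.X j × D.X i) ∘ₗ W.subtype), ?_⟩
    · rw [ModuleCat.epi_iff_surjective]
      intro a
      obtain ⟨x, y₁, hx, he⟩ := h (y₂.hom a) (congrArg (fun φ => φ.hom a) hy₂)
      exact ⟨⟨(a, x, y₁), by simp [W, hx, he]⟩, rfl⟩
    · ext w; exact w.2.1
    · ext w
      have := LinearMap.mem_ker.mp w.2.2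
      simp only [LinearMap.sub_apply, LinearMap.comp_apply, sub_sub, sub_eq_zero] at this
      exact this

theorem mono_homologyMap_one_iff (f : C ⟶ D) :
    Mono (homologyMap f 1) ↔ ∀ (x : C.X 1) (y : D.X 2), (C.d 1 0).hom x = 0 →
      (f.f 1).hom x = (D.d 2 1).hom y → ∃ x₁ : C.X 2, x = (C.d 2 1).hom x₁ :=
  mono_homologyMap_iff f 2 1 0 (by simp) (by simp)

theorem epi_homologyMap_one_iff (f : C ⟶ D) :
    Epi (homologyMap f 1) ↔ ∀ (y : D.X 1), (D.d 1 0).hom y = 0 →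
      ∃ (x : C.X 1) (y₁ : D.X 2), (C.d 1 0).hom x = 0 ∧ y = (f.f 1).hom x + (D.d 2 1).hom y₁ :=
  epi_homologyMap_iff f 2 1 0 (by simp) (by simp)

theorem mono_homologyMap_zero_iff (f : C ⟶ D) :
    Mono (homologyMap f 0) ↔ ∀ (x : C.X 0) (y : D.X 1),
      (f.f 0).hom x = (D.d 1 0).hom y → ∃ x₁ : C.X 1, x = (C.d 1 0).hom x₁ := by
  rw [mono_homologyMap_iff f 1 0 0 (by simp) (by simp)]
  exact ⟨fun h x y e => h x y (by simp) e, fun h x y _ e => h x y e⟩

theorem epi_homologyMap_zero_iff (f : C ⟶ D) :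
    Epi (homologyMap f 0) ↔ ∀ (y : D.X 0),
      ∃ (x : C.X 0) (y₁ : D.X 1), y = (f.f 0).hom x + (D.d 1 0).hom y₁ := by
  rw [epi_homologyMap_iff f 1 0 0 (by simp) (by simp)]
  constructor
  · intro h y
    obtain ⟨x, y₁, _, e⟩ := h y (by simp)
    exact ⟨x, y₁, e⟩
  · intro h y _
    obtain ⟨x, y₁, e⟩ := h y
    exact ⟨x, y₁, by simp, e⟩

end Groth.Agent.Biext52
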